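import Mathlib
import Cfsg.Agent.Helper9.J2S.Data

set_option autoImplicit false

/-! Kernel checks of the certificates. -/

noncomputable section

namespace Cfsg.Agent.Helper9.J2S

open Cfsg.Agent.Helper9.OutG Cfsg.Agent.Helper9.J3

set_option maxRecDepth 1000000 in
set_option maxHeartbeats 0 in
theorem tab_b : allB (tabChk dD) dD.K = true := by decide +kernel

set_option maxRecDepth 1000000 in
set_option maxHeartbeats 0 in
theorem dw_b : allB (dwChk dD) dD.K = true := by decide +kernel

set_option maxRecDepth 1000000 in
set_option maxHeartbeats 0 in
theorem chain_b : chainChk dD dC.bs [] dC.wss = true := by decide +kernel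

set_option maxRecDepth 1000000 in
set_option maxHeartbeats 0 in
theorem plen_b : prodLen dC.wss = 604800 := by decide +kernel

/-- the verified core. -/
theorem core : Core dD dC 604800 :=
  ⟨fun _ hk => allB_true tab_b hk, fun _ hk => allB_true dw_b hk, chain_b, plen_b⟩

end Cfsg.Agent.Helper9.J2S

end
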