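import Mathlib
import Cfsg.Agent.Helper9.J2S.Chk
import Cfsg.Agent.Helper9.J2S.ChkT0
import Cfsg.Agent.Helper9.J2S.ChkT1
import Cfsg.Agent.Helper9.J2S.ChkT2
import Cfsg.Agent.Helper9.J2S.ChkT3
import Cfsg.Agent.Helper9.J2S.ChkT4
import Cfsg.Agent.Helper9.J2S.ChkT5
import Cfsg.Agent.Helper9.J2S.ChkT6
import Cfsg.Agent.Helper9.J2S.ChkT7
import Cfsg.Agent.Helper9.J2S.ChkT8
import Cfsg.Agent.Helper9.J2S.ChkT9
import Cfsg.Agent.Helper9.J2S.ChkT10
import Cfsg.Agent.Helper9.J2S.ChkT11
import Cfsg.Agent.Helper9.J2S.ChkT12
import Cfsg.Agent.Helper9.J2S.ChkT13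
import Cfsg.Agent.Helper9.J2S.ChkT14
import Cfsg.Agent.Helper9.OutG.SpecMain
import Cfsg.Agent.Helper9.J2B.Order

set_option autoImplicit false

/-! The orders of the elements of the Hall–Janko group. -/

noncomputable section

namespace Cfsg.Agent.Helper9.J2S

open Cfsg Cfsg.Agent.Helper9.OutG Cfsg.Agent.Helper9.J3 Cfsg.Agent.Helper9.J2B

set_option maxRecDepth 1000000 in
set_option maxHeartbeats 0 in
theorem tab_eq : ∀ l : Fin 4, ∀ x : Fin 315, T dD l.val x.val = gtab l.val x.val := by
  decide +kernel

theorem letter_eq (l : Fin 4) :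
    (El dD core.tab l.val : Equiv.Perm (Fin 315)) = gP l.val := by
  apply Equiv.ext
  intro (x : Fin 315)
  apply Fin.ext
  exact (tab_eq l x).trans (gP_apply l.val x).symm

theorem grp_eq : (GS core : Subgroup (Equiv.Perm (Fin 315))) = G315 := by
  show Subgroup.closure (Set.range fun l : Fin 4 => (El dD core.tab l.val :
    Equiv.Perm (Fin 315))) = G315
  unfold G315
  congr 1
  ext σ
  constructor
  · rintro ⟨l, rfl⟩
    exact ⟨l, (letter_eq l).symm⟩
  · rintro ⟨l, rfl⟩
    exact ⟨l, letter_eq l⟩

theorem card_GS : Nat.card ↥(GS core) = 604800 := by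
  have h : Nat.card ↥(GS core) = Nat.card ↥G315 :=
    congrArg (fun H : Subgroup (Equiv.Perm (Fin 315)) => Nat.card ↥H) grp_eq
  rw [h, card_G315]

/-- the Hall–Janko group is the group of the tables. -/
def J2EquivGS : Cfsg.Spor.J2 ≃* ↥(GS core) :=
  J2EquivG315.trans (MulEquiv.subgroupCongr grp_eq.symm)

theorem hbs : ∀ b ∈ dC.bs, b < dD.n := by decide

theorem bound0 : 2520 ≤ {g : ↥(GS core) | cInv core g = (2, 300)}.ncard :=
  type_bound core card_GS hbs typeOK0 (by decide) 1 2520 (by decide) (by decide) (by decide)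

theorem bound1 : 315 ≤ {g : ↥(GS core) | cInv core g = (2, 304)}.ncard :=
  type_bound core card_GS hbs typeOK1 (by decide) 1 315 (by decide) (by decide) (by decide)

theorem bound2 : 560 ≤ {g : ↥(GS core) | cInv core g = (3, 270)}.ncard :=
  type_bound core card_GS hbs typeOK2 (by decide) 2 560 (by decide) (by decide) (by decide)

theorem bound3 : 16800 ≤ {g : ↥(GS core) | cInv core g = (3, 315)}.ncard :=
  type_bound core card_GS hbs typeOK3 (by decide) 2 16800 (by decide) (by decide) (by decide)

theorem bound4 : 6300 ≤ {g : ↥(GS core) | cInv core g = (4, 308)}.ncard :=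
  type_bound core card_GS hbs typeOK4 (by decide) 2 6300 (by decide) (by decide) (by decide)

theorem bound5 : 24192 ≤ {g : ↥(GS core) | cInv core g = (5, 310)}.ncard :=
  type_bound core card_GS hbs typeOK5 (by decide) 4 24192 (by decide) (by decide) (by decide)

theorem bound6 : 4032 ≤ {g : ↥(GS core) | cInv core g = (5, 315)}.ncard :=
  type_bound core card_GS hbs typeOK6 (by decide) 4 4032 (by decide) (by decide) (by decide)

theorem bound7 : 25200 ≤ {g : ↥(GS core) | cInv core g = (6, 310)}.ncard :=
  type_bound core card_GS hbs typeOK7 (by decide) 2 25200 (by decide) (by decide) (by decide)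

theorem bound8 : 50400 ≤ {g : ↥(GS core) | cInv core g = (6, 315)}.ncard :=
  type_bound core card_GS hbs typeOK8 (by decide) 2 50400 (by decide) (by decide) (by decide)

theorem bound9 : 86400 ≤ {g : ↥(GS core) | cInv core g = (7, 315)}.ncard :=
  type_bound core card_GS hbs typeOK9 (by decide) 6 86400 (by decide) (by decide) (by decide)

theorem bound10 : 75600 ≤ {g : ↥(GS core) | cInv core g = (8, 314)}.ncard :=
  type_bound core card_GS hbs typeOK10 (by decide) 4 75600 (by decide) (by decide) (by decide)

theorem bound11 : 120960 ≤ {g : ↥(GS core) | cInv core g = (10, 314)}.ncard :=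
  type_bound core card_GS hbs typeOK11 (by decide) 4 120960 (by decide) (by decide) (by decide)

theorem bound12 : 60480 ≤ {g : ↥(GS core) | cInv core g = (10, 315)}.ncard :=
  type_bound core card_GS hbs typeOK12 (by decide) 4 60480 (by decide) (by decide) (by decide)

theorem bound13 : 50400 ≤ {g : ↥(GS core) | cInv core g = (12, 314)}.ncard :=
  type_bound core card_GS hbs typeOK13 (by decide) 4 50400 (by decide) (by decide) (by decide)

theorem bound14 : 80640 ≤ {g : ↥(GS core) | cInv core g = (15, 315)}.ncard :=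
  type_bound core card_GS hbs typeOK14 (by decide) 8 80640 (by decide) (by decide) (by decide)

theorem bound_one : 1 ≤ {g : ↥(GS core) | cInv core g = (1, 0)}.ncard := by
  have : Finite ↥(GS core) := inferInstance
  rw [Nat.one_le_iff_ne_zero, Ne, Set.ncard_eq_zero (Set.toFinite _), ← Ne,
    ← Set.nonempty_iff_ne_empty]
  refine ⟨1, ?_⟩
  change cInv core 1 = (1, 0)
  unfold cInv
  rw [orderOf_one]
  congr 1

/-- the values of the invariant. -/
def vals : Finset (ℕ × ℕ) := {(1, 0), (2, 300), (2, 304), (3, 270), (3, 315), (4, 308), (5, 310), (5, 315), (6, 310), (6, 315), (7, 315), (8, 314), (10, 314), (10, 315), (12, 314), (15, 315)}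

/-- the lower bounds. -/
def lows : ℕ × ℕ → ℕ := fun b => if b = (1, 0) then 1 else if b = (2, 300) then 2520 else if b = (2, 304) then 315 else if b = (3, 270) then 560 else if b = (3, 315) then 16800 else if b = (4, 308) then 6300 else if b = (5, 310) then 24192 else if b = (5, 315) then 4032 else if b = (6, 310) then 25200 else if b = (6, 315) then 50400 else if b = (7, 315) then 86400 else if b = (8, 314) then 75600 else if b = (10, 314) then 120960 else if b = (10, 315) then 60480 else if b = (12, 314) then 50400 else if b = (15, 315) then 80640 else 0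

theorem lows_sum : ∑ b ∈ vals, lows b = 604800 := by decide

theorem lows_le : ∀ b ∈ vals, lows b ≤ {g : ↥(GS core) | cInv core g = b}.ncard := by
  intro b hb
  unfold vals at hb
  simp only [Finset.mem_insert, Finset.mem_singleton] at hb
  rcases hb with rfl | rfl | rfl | rfl | rfl | rfl | rfl | rfl | rfl | rfl | rfl | rfl | rfl | rfl | rfl | rfl
  · exact bound_one
  · exact bound0
  · exact bound1
  · exact bound2
  · exact bound3
  · exact bound4
  · exact bound5
  · exact bound6
  · exact bound7
  · exact bound8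
  · exact bound9
  · exact bound10
  · exact bound11
  · exact bound12
  · exact bound13
  · exact bound14

theorem cInv_mem (g : ↥(GS core)) : cInv core g ∈ vals := by
  have : Finite ↥(GS core) := inferInstance
  exact Cfsg.Agent.Helper9.ClassCount.mem_of_sum_eq (cInv core) vals lows lows_le
    (by rw [lows_sum, card_GS]) g

/-- the orders of the elements. -/
def ordSet : Finset ℕ := {1, 2, 3, 4, 5, 6, 7, 8, 10, 12, 15}

theorem vals_fst : ∀ b ∈ vals, b.1 ∈ ordSet := by decide

theorem orderOf_mem (g : ↥(GS core)) : orderOf g ∈ ordSet := vals_fst _ (cInv_mem g)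

theorem exists_orderOf : ∀ n ∈ ordSet, ∃ g : ↥(GS core), orderOf g = n := by
  intro n hn
  unfold ordSet at hn
  simp only [Finset.mem_insert, Finset.mem_singleton] at hn
  rcases hn with rfl | rfl | rfl | rfl | rfl | rfl | rfl | rfl | rfl | rfl | rfl
  · exact ⟨1, orderOf_one⟩
  · exact ⟨gE core dT0.ky, type_order core typeOK0⟩
  · exact ⟨gE core dT2.ky, type_order core typeOK2⟩
  · exact ⟨gE core dT4.ky, type_order core typeOK4⟩
  · exact ⟨gE core dT5.ky, type_order core typeOK5⟩
  · exact ⟨gE core dT7.ky, type_order core typeOK7⟩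
  · exact ⟨gE core dT9.ky, type_order core typeOK9⟩
  · exact ⟨gE core dT10.ky, type_order core typeOK10⟩
  · exact ⟨gE core dT11.ky, type_order core typeOK11⟩
  · exact ⟨gE core dT13.ky, type_order core typeOK13⟩
  · exact ⟨gE core dT14.ky, type_order core typeOK14⟩

/-- the set of the orders of the elements of the Hall–Janko group. -/
theorem range_orderOf_J2 : Set.range (orderOf : Cfsg.Spor.J2 → ℕ) = (ordSet : Set ℕ) := by
  ext n
  constructor
  · rintro ⟨x, rfl⟩
    rw [← J2EquivGS.orderOf_eq x]
    exact orderOf_mem _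
  · intro hn
    obtain ⟨g, hg⟩ := exists_orderOf n hn
    exact ⟨J2EquivGS.symm g, by rw [J2EquivGS.symm.orderOf_eq g, hg]⟩

end Cfsg.Agent.Helper9.J2S

end
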